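import Mathlib
import Cfsg.Agent.Lib.Comput.Check2
import Cfsg.Agent.Lib.Comput.NetModel
import Cfsg.Agent.Lib.Leech.CMcL.Data

/-! generated by tools/cgt -/

set_option autoImplicit false
set_option maxRecDepth 100000

namespace CfsgLib.Leech.CMcL

open CfsgLib.Comput

def R6_0 : RepC := ⟨34, 1, [],
  []⟩
def R6_1 : RepC := ⟨35, 1, [],
  []⟩
def S6_0 : GenC := ⟨35, [],
  [(0, 0, 0, 2, 0), (0, 1, 0, 0, 0), (0, 2, 0, 1, 0)], 0⟩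
def L6 : Level := ⟨0x0, 0x600000000, [], 1, 3, 0, 3, [R6_0, R6_1], [S6_0]⟩
def X6 : Ext := [(33, 35, 0)]

def R5_0 : RepC := ⟨29, 1, [(35, 34)],
  [(53, 2, [1])]⟩
def R5_1 : RepC := ⟨30, 1, [(34, 34)],
  [(53, 2, [1])]⟩
def R5_2 : RepC := ⟨31, 1, [(35, 35)],
  [(83, 2, [1])]⟩
def R5_3 : RepC := ⟨0x1e1d, 1, [(34, 35)],
  [(53, 2, [1])]⟩
def R5_4 : RepC := ⟨0x1f1d, 1, [(35, 34)],
  [(3, 2, [1])]⟩
def S5_0 : GenC := ⟨29, [(34, 35)],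
  [(0, 0, 0, 1, 0), (0, 1, 0, 0, 0), (0, 2, 0, 5, 0), (0, 3, 0, 4, 0), (0, 4, 0, 3, 0), (0, 5, 0, 2, 0)], 0⟩
def S5_1 : GenC := ⟨31, [(35, 35)],
  [(0, 0, 0, 3, 0), (0, 1, 0, 5, 0), (0, 2, 0, 0, 0), (0, 3, 0, 2, 0), (0, 4, 0, 1, 0), (0, 5, 0, 4, 0)], 0⟩
def L5 : Level := ⟨0x600000000, 0x7f0000000, [35], 3, 2, 0, 6, [R5_0, R5_1, R5_2, R5_3, R5_4], [S5_0, S5_1]⟩
def X5 : Ext := [(29, 31, 0), (31, 0, 34), (32, 32, 0)]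

def R4_0 : RepC := ⟨37, 1, [(0x1f1d, 29), (29, 0x1e1d), (35, 35)],
  [(84, 2, [1, 2, 3]), (2, 1, [1])]⟩
def R4_1 : RepC := ⟨36, 1, [(0x1f1d23, 0x1e1d23), (31, 31), (0x1f23, 0x1f23)],
  [(42, 2, [1, 2, 3]), (10, 1, [1])]⟩
def R4_2 : RepC := ⟨19, 6, [(0x1f22, 0x1f22)],
  [(2, 2, [1])]⟩
def R4_3 : RepC := ⟨21, 6, [(0x1e22, 0x1e22)],
  [(94, 2, [1])]⟩
def R4_4 : RepC := ⟨0x1315, 6, [(34, 34)],
  [(3, 2, [1])]⟩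
def R4_5 : RepC := ⟨0x1c16, 6, [(31, 31)],
  [(94, 2, [1])]⟩
def S4_0 : GenC := ⟨36, [(0x1e22, 0x1e22), (35, 35), (29, 0x1e1d)],
  [(0, 0, 0, 2, 0), (0, 3, 0, 3, 31), (0, 4, 0, 4, 31), (0, 5, 30, 5, 30), (0, 6, 35, 6, 0x1f22), (0, 1, 0, 0, 0), (0, 2, 0, 1, 0)], 2⟩
def S4_1 : GenC := ⟨20, [(0x1e23, 0x1e23)],
  [(0, 0, 29, 3, 29), (0, 3, 0, 0, 0), (29, 3, 0, 3, 29), (0, 4, 0x1d22, 6, 0x1e1d22), (29, 4, 29, 5, 0), (29, 5, 34, 6, 0x1e1d22), (0x1d22, 3, 34, 3, 0x1d23), (34, 3, 0, 2, 0x1e22), (0, 5, 0, 4, 0), (0, 6, 0x1d23, 4, 0x1e1d23), (0, 1, 0x1d23, 3, 0x1f1d23), (29, 6, 31, 5, 0x1f1d), (0x1d23, 3, 35, 3, 0x1d22), (0, 2, 0x1d22, 3, 0x1e1d22), (35, 3, 0, 1, 0x1f23)], 2⟩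
def S4_2 : GenC := ⟨22, [(0x1f23, 0x1f23)],
  [(0, 0, 0x1d22, 4, 0x1d22), (0, 3, 0, 6, 30), (29, 3, 29, 5, 0), (0, 4, 0, 0, 0), (0x1d22, 4, 0, 4, 0x1d22), (29, 5, 0x1d23, 6, 0x1e22), (35, 4, 0, 2, 0x1e23), (29, 4, 35, 4, 0x1d23), (0, 5, 35, 3, 34), (0, 6, 31, 5, 0), (0, 1, 0x1d23, 4, 0x1f1d23), (29, 6, 0x1d23, 3, 0x1f22), (0x1d23, 4, 34, 4, 29), (0, 2, 29, 4, 0x1e1d), (34, 4, 0, 1, 0x1f22)], 2⟩
def L4 : Level := ⟨0x7f0000000, 0x1ffffc0000, [29, 31, 35], 18, 1, 0, 27, [R4_0, R4_1, R4_2, R4_3, R4_4, R4_5], [S4_0, S4_1, S4_2]⟩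
def X4 : Ext := [(36, 36, 0), (18, 20, 0), (20, 22, 0), (22, 0, 0x14161d), (23, 23, 0), (24, 0, 0x15241f23), (25, 25, 0), (26, 0, 0x14241f), (27, 27, 0)]

def R3_0 : RepC := ⟨16, 1, [(0x1b1e1d22, 0x191f1d23), (37, 0x1e22), (0x141d, 0x19241f1d23), (0x1a23, 0x19141f23), (0x17131f1d, 0x1a2423)],
  [(28, 2, [1, 2, 3, 4, 5]), (20, 2, [1, 2, 3]), (1, 1, [1])]⟩
def S3_0 : GenC := ⟨16, [(0x1315, 0x1c241e23)],
  [(0, 0, 0, 1, 0), (0, 1, 0, 0, 0x171f)], 0⟩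
def L3 : Level := ⟨0x1ffffc0000, 0x1ffffff000, [36, 20, 22, 29, 31, 35], 486, 131, 0, 2, [R3_0], [S3_0]⟩
def X3 : Ext := [(14, 16, 0), (12, 0, 0x171f1d), (13, 13, 0), (16, 0, 0x1017131e), (17, 17, 0)]

def R2_0 : RepC := ⟨0xb230a, 2, [(0x141f1d23, 0x1e1d), (37, 0x161f23), (0x141d, 0x181e23), (0x151f, 0x17151f1d), (0x19131e, 0x17241f1d)],
  [(44, 2, [1, 2, 3, 4, 5]), (77, 2, [1, 2, 3]), (1, 1, [1])]⟩
def R2_1 : RepC := ⟨10, 27, [(0x1f1d23, 0x19241e1d), (0x10131d, 0x10161e22)],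
  [(107, 5, [1, 2]), (2, 1, [1])]⟩
def S2_0 : GenC := ⟨10, [(0x101513, 0x1013161e1d22), (0x1c24, 0x1c24)],
  [(0, 0, 0, 2, 0), (0, 2, 0, 0, 0x1c24), (29, 2, 25, 2, 0x1b1f1d22), (28, 2, 13, 2, 0x101a1d), (0, 1, 0x1023, 2, 0x101316), (0x161d, 2, 16, 1, 0x1017241f1d)], 4⟩
def L2 : Level := ⟨0x1ffffff000, 0x1fffffff00, [16, 36, 20, 22, 29, 31, 35], 972, 126, 0, 30, [R2_0, R2_1], [S2_0]⟩
def X2 : Ext := [(8, 10, 0), (10, 0, 0x1d0a251e1d), (11, 11, 0)]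

def R1_0 : RepC := ⟨0x626, 30, [(0x19131e1d23, 0x131d), (0x17241e, 0x151e1d), (0x1c2423, 0x15131e22), (0x1017241e23, 0xb230a1013161e22)],
  [(33, 4, [1, 2, 3, 4]), (99, 2, [1, 2, 3]), (94, 1, [1])]⟩
def R1_1 : RepC := ⟨5, 81, [(0x220a101a241f22, 0xb1019131e22), (0x1a0a1013151d, 0xb1019141f1d22), (0x1c0b151d, 0x1a1d22)],
  [(137, 5, [1, 2, 3]), (99, 2, [1, 2])]⟩
def S1_0 : GenC := ⟨38, [(0x230a1a24, 0xa10131623), (0x1c0b1013, 0xc1a0a101c161f22)],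
  [(0, 0, 0x220a, 1, 0x1a0a241f23), (0, 2, 0xa1d, 2, 0x1c0b1b241f1d), (28, 2, 0x120a, 1, 0x150b10141f1d22), (0x150b, 1, 0, 0, 0x9220a19131e22), (0, 1, 0x1609, 2, 0x190a1c161f), (0x190a, 1, 0x9220a, 1, 0xb230a19141e1d23)], 6⟩
def L1 : Level := ⟨0x1fffffff00, 0x7ffffffff0, [10, 16, 36, 20, 22, 29, 31, 35], 29160, 6, 0, 112, [R1_0, R1_1], [S1_0]⟩
def X1 : Ext := [(38, 38, 0), (4, 0, 0x1b272526150a17131e22), (5, 5, 0), (6, 0, 0x2706), (7, 7, 0)]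

def R0_0 : RepC := ⟨0x41302, 112, [(0x161e1d, 0xc05130a151f22), (0x220a10251e1d23, 0x1606220a241f1d), (0xa15141f, 0x22072615141f1d22), (0x101316, 0x1005170b10241f1d22)],
  [(65, 4, [1, 2, 3, 4]), (198, 4, [1, 2, 3]), (1, 2, [1, 2])]⟩
def R0_1 : RepC := ⟨3, 162, [(0x170c101e23, 0x1726260f0a171d), (0x1606160a1d22, 0x22070f0a1e), (0x80e261e0b191f23, 0x16061c0b1b241f23), (0x2405120a131d22, 0x1905170b1a241e)],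
  [(32, 4, [1, 2, 3, 4]), (31, 4, [1, 2, 3]), (13, 2, [1])]⟩
def S0_0 : GenC := ⟨2, [(0x13061c0b10131f, 0x27242609220a101923), (0x18070c1c2422, 0x1105130a102522)],
  [(0, 0, 0x272727, 1, 0x906160b101c241f1d22), (0x1405, 1, 0, 0, 0x1a051f0a1017151e1d23), (38, 1, 0x907, 1, 0x81826150a251d), (0, 2, 0x140523, 2, 0x818261a0a1322), (18, 2, 0x1d06, 1, 0x1226140a19241d), (0, 1, 0x61f, 2, 0x1926150a1015141f1d23)], 6⟩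
def L0 : Level := ⟨0x7ffffffff0, 0x7fffffffff, [38, 10, 16, 36, 20, 22, 29, 31, 35], 3265920, 0, 0, 275, [R0_0, R0_1], [S0_0]⟩
def X0 : Ext := [(0, 2, 0), (2, 0, 0x80216021526240a1a241e23), (3, 3, 0)]

def top : List ℕ := [1, 3]
def gs : List ℕ := [2, 38, 10, 16, 36, 20, 22, 29, 31, 35]
def XD : Ext := [(1, 1, 0), (3, 3, 0), (4, 0, 0x401030104010302020204), (5, 5, 0), (6, 0, 0x203010302030302030203), (7, 7, 0), (8, 0, 0x70705050705080607), (9, 9, 0), (10, 0, 0x50805070606080608), (11, 11, 0), (12, 0, 0xa0c09090c0a0c090b), (13, 13, 0), (14, 0, 0xa0c090b0b090c090b), (15, 15, 0), (16, 0, 0xa0b0b090c0a0b09), (17, 17, 0), (18, 0, 0x100d0d0f), (19, 19, 0), (20, 0, 0xe120f), (21, 21, 0), (22, 0, 0x100d110f0f), (23, 23, 0), (24, 0, 0x110e10), (25, 25, 0), (26, 0, 0x120f), (27, 27, 0), (28, 0, 0x1416141617), (29,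 0, 0x14181c1318), (30, 30, 0), (31, 0, 0x13151c1c1a), (32, 32, 0), (33, 0, 0x1d1e211f1d), (34, 34, 0), (35, 0, 0x141c), (36, 36, 0), (37, 0, 0x608), (38, 38, 0)]
def MX : Level.MaxC := [[(0x272727, [0x906160b101c241f1d22])], [(0x272727272708, [36, 0xb070b230a101315])]]
def NC : NclD := ⟨0x111e02, 11, [(0, [12, 0x20418261f0a1019141f]), (2, [14, 0x2423040818260c1a0a1019241f23])]⟩

/-- all the equations of the certificate -/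
structure Eqs {G : Type*} [Group G] (g : ℕ → G) : Prop where
  l6 : AllHold g L6.eqns
  x6 : AllHold g X6.eqns
  l5 : AllHold g L5.eqns
  x5 : AllHold g X5.eqns
  l4 : AllHold g L4.eqns
  x4 : AllHold g X4.eqns
  l3 : AllHold g L3.eqns
  x3 : AllHold g X3.eqns
  l2 : AllHold g L2.eqns
  x2 : AllHold g X2.eqns
  l1 : AllHold g L1.eqns
  x1 : AllHold g X1.eqns
  l0 : AllHold g L0.eqns
  x0 : AllHold g X0.eqns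
  xd : AllHold g XD.eqns
  mx : AllHold g (L0.maxEqns MX)
  nc : AllHold g NC.eqns

end CfsgLib.Leech.CMcL
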